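import Cfsg.Agent.Spor.Ly3906.VB.D0

set_option autoImplicit false
set_option maxRecDepth 100000000
set_option Elab.async false

namespace Cfsg.Agent.Spor.Ly3906.VB

theorem uok9 : Net.okb 12 un9 = true := by decide +kernel

theorem rel3 : U.rel 12 [19, 1, 5, 4, 4, 6, 4, 1, 4, 5, 1] 0 12 = true := by decide +kernel

theorem uok10 : Net.okb 12 un10 = true := by decide +kernel

theorem rel4 : U.rel 12 [21, 4, 5, 2, 5, 3, 6, 2, 6, 2, 2] 0 12 = true := by decide +kernel

theorem uok11 : Net.okb 12 un11 = true := by decide +kernel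

theorem rel5 : U.rel 12 [23, 2, 3, 5, 1, 3, 3, 5, 3, 5, 1] 0 12 = true := by decide +kernel

theorem uok12 : Net.okb 12 un12 = true := by decide +kernel

theorem rel6 : U.rel 12 [25, 5, 2, 5, 2, 5, 2, 4, 6, 2, 3] 0 12 = true := by decide +kernel

theorem uok13 : Net.okb 12 un13 = true := by decide +kernel

theorem rel7 : U.rel 12 [27, 8, 1, 6, 3, 3, 6, 8, 6, 2, 5, 2, 6, 3, 8] 0 12 = true := by decide +kernel

theorem uok14 : Net.okb 12 un14 = true := by decide +kernel

theorem rel8 : U.rel 12 [29, 5, 7, 5, 2, 5, 2, 6, 8, 3, 5, 5, 4, 7] 0 12 = true := by decide +kernel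

theorem uok15 : Net.okb 12 un15 = true := by decide +kernel

theorem rel9 : U.rel 12 [31, 3, 3, 2, 6, 7, 3, 2, 4, 6, 4, 1, 5, 4, 5, 8] 0 12 = true := by decide +kernel

theorem uok16 : Net.okb 12 un16 = true := by decide +kernel

theorem rel10 : U.rel 12 [33, 6, 8, 5, 5, 1, 5, 1, 3, 3, 1, 4, 7, 5, 5, 7] 0 12 = true := by decide +kernel

theorem uok17 : Net.okb 12 un17 = true := by decide +kernel

theorem rel11 : U.rel 12 [35, 6, 3, 5, 1, 5, 1, 5, 7, 6, 1, 3, 6, 7, 5, 1, 6] 0 12 = true := by decide +kernel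

theorem uok18 : Net.okb 12 un18 = true := by decide +kernel

theorem rel12 : U.rel 12 [37, 5, 8, 6, 4, 4, 6, 6, 8, 2, 6, 2, 6, 2, 3] 0 12 = true := by decide +kernel

theorem uok19 : Net.okb 12 un19 = true := by decide +kernel

theorem rel14 : U.rel 12 [39, 19, 21, 21, 21, 19, 21, 21, 21, 19, 19, 19, 19, 21, 21, 19, 21, 21, 21, 19, 19, 19, 21, 19, 19, 21, 21, 21, 21, 21, 19, 19, 21, 21] 0 12 = true := by decide +kernel

theorem uok20 : Net.okb 12 un20 = true := by decide +kernel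

theorem rel15 : U.rel 12 [41, 19, 21, 21, 19, 21, 19, 21, 21, 21, 21, 19, 19, 19, 21, 21, 19, 19, 21, 21, 21, 19, 21, 21, 19, 21, 19, 21, 19, 19, 19, 19, 19, 19, 19, 21, 21, 21, 21, 21, 19, 19, 21, 21, 19, 21, 21, 21, 19, 21, 19, 21, 21, 19, 21, 19, 19, 19, 21, 19, 21, 19, 21, 21, 21, 21, 19, 21, 21, 19] 0 12 = true := by decide +kernel

theorem gr17 : sub M16 (U.growI W13 [0, 1, 1, 0, 0, 1, 1, 0, 0, 1, 1, 0, 0, 1, 1, 0, 0, 1, 1, 0, 0, 1, 1] (Nat.shiftLeft 1 1)) = true := by decide +kernel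

theorem cl19 : band (U.closedW W13 M16) (sub (Nat.shiftLeft 1 1) M16) = true := by decide +kernel

theorem sz20 : sizeOk 12 M16 3125 = true := by decide +kernel

theorem fx23 : U.closedW W22 (Nat.shiftLeft 1 1) = true := by decide +kernel

theorem gr25 : sub M24 (U.growI W22 [0, 1, 1, 0, 0, 1, 1, 0, 0, 1, 1, 0, 0, 1] (Nat.shiftLeft 1 5)) = true := by decide +kernel

theorem cl27 : band (U.closedW W22 M24) (sub (Nat.shiftLeft 1 5) M24) = true := by decide +kernel

theorem sz28 : sizeOk 12 M24 96 = true := by decide +kernel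

theorem uok21 : Net.okb 12 un21 = true := by decide +kernel

theorem rel32 : U.rel 12 [43, 23, 23, 25, 23, 23, 25, 25, 23, 25, 25, 23, 25, 25, 23, 25, 25, 25, 25, 23, 23, 23] 0 12 = true := by decide +kernel

theorem uok22 : Net.okb 12 un22 = true := by decide +kernel

theorem rel33 : U.rel 12 [45, 23, 23, 25, 25, 23, 23, 23, 23, 23, 25, 23, 25, 23, 23, 25, 25, 23, 23, 25, 23, 23, 25, 23, 25, 23, 23, 25, 25, 23, 25, 25, 25, 25, 23, 25, 23, 23, 25, 25, 23, 25, 23, 25, 25] 0 12 = true := by decide +kernel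

theorem gr35 : sub M34 (U.growI W31 [0, 1, 1, 0, 0, 1, 1, 0, 0, 1, 1, 0, 0, 1, 1, 0, 0, 1, 1, 0, 0, 1] (Nat.shiftLeft 1 1)) = true := by decide +kernel

theorem cl37 : band (U.closedW W31 M34) (sub (Nat.shiftLeft 1 1) M34) = true := by decide +kernel

theorem sz38 : sizeOk 12 M34 3125 = true := by decide +kernel

theorem fx41 : U.closedW W40 (Nat.shiftLeft 1 1) = true := by decide +kernel

theorem gr43 : sub M42 (U.growI W40 [0, 1, 1, 0, 0, 1, 1, 0, 0, 1, 1, 0] (Nat.shiftLeft 1 5)) = true := by decide +kernel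

theorem cl45 : band (U.closedW W40 M42) (sub (Nat.shiftLeft 1 5) M42) = true := by decide +kernel

theorem sz46 : sizeOk 12 M42 96 = true := by decide +kernel

theorem uok23 : Net.okb 12 un23 = true := by decide +kernel

theorem rel50 : U.rel 12 [47, 27, 27, 29, 29, 27, 29, 27, 27, 29] 0 12 = true := by decide +kernel

theorem gr52 : sub M51 (U.growI W49 [0, 1, 1, 0, 0, 1, 1, 0, 0, 1, 1, 0, 0, 1, 1, 0, 0, 1, 1, 0, 0] (Nat.shiftLeft 1 5)) = true := by decide +kernel

theorem cl54 : band (U.closedW W49 M51) (sub (Nat.shiftLeft 1 5) M51) = true := by decide +kernel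

theorem sz55 : sizeOk 12 M51 2016 = true := by decide +kernel

theorem fx58 : U.closedW W57 (Nat.shiftLeft 1 5) = true := by decide +kernel

theorem gr60 : sub M59 (U.growI W57 [0, 0] (Nat.shiftLeft 1 0)) = true := by decide +kernel

theorem cl62 : band (U.closedW W57 M59) (sub (Nat.shiftLeft 1 0) M59) = true := by decide +kernel

theorem sz63 : sizeOk 12 M59 3 = true := by decide +kernel

theorem gr68 : sub M67 (U.growI W66 [1, 1, 0, 0, 1, 1, 0, 0, 1, 1, 0, 0, 1, 1, 0, 0, 1, 1, 0] (Nat.shiftLeft 1 3504)) = true := by decide +kernel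

theorem cl70 : band (U.closedW W66 M67) (sub (Nat.shiftLeft 1 3504) M67) = true := by decide +kernel

theorem sz71 : sizeOk 12 M67 480 = true := by decide +kernel

theorem fx74 : U.closedW W73 (Nat.shiftLeft 1 3504) = true := by decide +kernel

theorem gr76 : sub M75 (U.growI W73 [0, 0, 0, 0, 0] (Nat.shiftLeft 1 0)) = true := by decide +kernel

theorem cl78 : band (U.closedW W73 M75) (sub (Nat.shiftLeft 1 0) M75) = true := by decide +kernel

theorem sz79 : sizeOk 12 M75 6 = true := by decide +kernel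

theorem gr84 : sub M83 (U.growI W82 [0, 1, 1, 0, 1, 1, 0, 1, 1, 0, 1, 1, 0, 1, 1, 0, 1, 1, 0, 1, 1, 0] (Nat.shiftLeft 1 1)) = true := by decide +kernel

theorem cl86 : band (U.closedW W82 M83) (sub (Nat.shiftLeft 1 1) M83) = true := by decide +kernel

theorem sz87 : sizeOk 12 M83 1008 = true := by decide +kernel

end Cfsg.Agent.Spor.Ly3906.VB
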