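import Cfsg.Agent.Spor.Prim
import Cfsg.Agent.Spor.Ly3906.Main
import Cfsg.Agent.Spor.Ly3906.VB.C0
import Cfsg.Agent.Spor.TT2
import Cfsg.Agent.Spor.DE3
import Cfsg.Agent.Spor.Ly3906.Grp

set_option autoImplicit false
set_option maxRecDepth 100000000
set_option Elab.async false

namespace Cfsg.Agent.Spor.Ly3906.VB

theorem hU : U.Ok 12 := U.ok_of 12 (show AllP (fun n => Net.okb 12 n = true) [n0, n1, n2, n3, n4, n5, n6, n7, n8, un9, un10, un11, un12, un13, un14, un15, un16, un17, un18, un19, un20, un21, un22, un23] from AllP.cons ok0 (AllP.cons ok1 (AllP.cons ok2 (AllP.cons ok3 (AllP.cons ok4 (AllP.cons ok5 (AllP.cons ok6 (AllP.cons ok7 (AllP.cons ok8 (AllP.cons uok9 (AllP.cons uok10 (AllP.cons uok11 (AllP.cons uok12 (AllP.cons uok13 (AllP.cons uok14 (AllP.cons uok15 (AllP.cons uok16 (AllP.cons uok17 (AllP.cons uok18 (AllP.cons uok19 (AllP.cons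 uok20 (AllP.cons uok21 (AllP.cons uok22 (AllP.cons uok23 (AllP.nil)))))))))))))))))))))))))

theorem hfP : ∀ j < 4, U.fP [1, 3, 5, 7] j = fP j := by
  intro j hj
  interval_cases j <;> rfl
theorem eG : gsub 4 fP = U.lsub W1 := (gsub_congr hfP).symm.trans (lsub_eq_gsub U [1, 3, 5, 7])
theorem upz1 : ev (atm 4 fP) [0] = U.τ 1 := pz1
theorem upz3 : ev (atm 4 fP) [2] = U.τ 3 := pz2
theorem upz5 : ev (atm 4 fP) [4] = U.τ 5 := pz3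
theorem upz7 : ev (atm 4 fP) [6] = U.τ 7 := pz4
theorem upz9 : ev (atm 4 fP) [1, 4, 0] = U.τ 9 := pz9
theorem upz11 : ev (atm 4 fP) [3, 4, 2] = U.τ 11 := pz11
theorem upz13 : ev (atm 4 fP) [2, 4, 3] = U.τ 13 := pz13
theorem upz15 : ev (atm 4 fP) [5, 1, 5, 0, 4, 1, 4, 0] = U.τ 15 := pz15
theorem upz17 : ev (atm 4 fP) [3, 3, 1, 5, 0, 4, 1, 4, 0, 6, 4, 2, 0, 3, 6, 4, 6] = U.τ 17 := pz17
theorem eH : wsub 4 fP BW = U.lsub W2 :=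
  lsub_eq_of_all₂ (show List.Forall₂ _ [[0], [2], [4]] [[1], [3], [5]] from List.Forall₂.cons (upz1.trans (one_mul _).symm) (List.Forall₂.cons (upz3.trans (one_mul _).symm) (List.Forall₂.cons (upz5.trans (one_mul _).symm) (List.Forall₂.nil))))
theorem vpz1 : PZ U (atm 4 fP) EXU 1 := pz1
theorem vpz2 : PZ U (atm 4 fP) EXU 2 := PZ.of_inv hiv vpz1 (by decide +kernel)
theorem vpz3 : PZ U (atm 4 fP) EXU 3 := pz2
theorem vpz4 : PZ U (atm 4 fP) EXU 4 := PZ.of_inv hiv vpz3 (by decide +kernel)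
theorem vpz5 : PZ U (atm 4 fP) EXU 5 := pz3
theorem vpz6 : PZ U (atm 4 fP) EXU 6 := PZ.of_inv hiv vpz5 (by decide +kernel)
theorem vpz7 : PZ U (atm 4 fP) EXU 7 := pz4
theorem vpz8 : PZ U (atm 4 fP) EXU 8 := PZ.of_inv hiv vpz7 (by decide +kernel)
theorem vpz9 : PZ U (atm 4 fP) EXU 9 := pz9
theorem vpz10 : PZ U (atm 4 fP) EXU 10 := PZ.of_inv hiv vpz9 (by decide +kernel)
theorem vpz11 : PZ U (atm 4 fP) EXU 11 := pz11
theorem vpz12 : PZ U (atm 4 fP) EXU 12 := PZ.of_inv hiv vpz11 (by decide +kernel)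
theorem vpz13 : PZ U (atm 4 fP) EXU 13 := pz13
theorem vpz14 : PZ U (atm 4 fP) EXU 14 := PZ.of_inv hiv vpz13 (by decide +kernel)
theorem vpz15 : PZ U (atm 4 fP) EXU 15 := pz15
theorem vpz16 : PZ U (atm 4 fP) EXU 16 := PZ.of_inv hiv vpz15 (by decide +kernel)
theorem vpz17 : PZ U (atm 4 fP) EXU 17 := pz17
theorem vpz18 : PZ U (atm 4 fP) EXU 18 := PZ.of_inv hiv vpz17 (by decide +kernel)
theorem vpz19 : PZ U (atm 4 fP) EXU 19 := PZ.of_def hiv (d := [1, 5, 4, 4, 6, 4, 1, 4, 5, 1]) (AllP.cons vpz1 (AllP.cons vpz5 (AllP.cons vpz4 (AllP.cons vpz4 (AllP.cons vpz6 (AllP.cons vpz4 (AllP.cons vpz1 (AllP.cons vpz4 (AllP.cons vpz5 (AllP.cons vpz1 (AllP.nil))))))))))) (hU.one rel3) (by decide +kernel)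
theorem vpz20 : PZ U (atm 4 fP) EXU 20 := PZ.of_inv hiv vpz19 (by decide +kernel)
theorem vpz21 : PZ U (atm 4 fP) EXU 21 := PZ.of_def hiv (d := [4, 5, 2, 5, 3, 6, 2, 6, 2, 2]) (AllP.cons vpz4 (AllP.cons vpz5 (AllP.cons vpz2 (AllP.cons vpz5 (AllP.cons vpz3 (AllP.cons vpz6 (AllP.cons vpz2 (AllP.cons vpz6 (AllP.cons vpz2 (AllP.cons vpz2 (AllP.nil))))))))))) (hU.one rel4) (by decide +kernel)
theorem vpz22 : PZ U (atm 4 fP) EXU 22 := PZ.of_inv hiv vpz21 (by decide +kernel)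
theorem vpz23 : PZ U (atm 4 fP) EXU 23 := PZ.of_def hiv (d := [2, 3, 5, 1, 3, 3, 5, 3, 5, 1]) (AllP.cons vpz2 (AllP.cons vpz3 (AllP.cons vpz5 (AllP.cons vpz1 (AllP.cons vpz3 (AllP.cons vpz3 (AllP.cons vpz5 (AllP.cons vpz3 (AllP.cons vpz5 (AllP.cons vpz1 (AllP.nil))))))))))) (hU.one rel5) (by decide +kernel)
theorem vpz24 : PZ U (atm 4 fP) EXU 24 := PZ.of_inv hiv vpz23 (by decide +kernel)
theorem vpz25 : PZ U (atm 4 fP) EXU 25 := PZ.of_def hiv (d := [5, 2, 5, 2, 5, 2, 4, 6, 2, 3]) (AllP.cons vpz5 (AllP.cons vpz2 (AllP.cons vpz5 (AllP.cons vpz2 (AllP.cons vpz5 (AllP.cons vpz2 (AllP.cons vpz4 (AllP.cons vpz6 (AllP.cons vpz2 (AllP.cons vpz3 (AllP.nil))))))))))) (hU.one rel6) (by decide +kernel)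
theorem vpz26 : PZ U (atm 4 fP) EXU 26 := PZ.of_inv hiv vpz25 (by decide +kernel)
theorem vpz27 : PZ U (atm 4 fP) EXU 27 := PZ.of_def hiv (d := [8, 1, 6, 3, 3, 6, 8, 6, 2, 5, 2, 6, 3, 8]) (AllP.cons vpz8 (AllP.cons vpz1 (AllP.cons vpz6 (AllP.cons vpz3 (AllP.cons vpz3 (AllP.cons vpz6 (AllP.cons vpz8 (AllP.cons vpz6 (AllP.cons vpz2 (AllP.cons vpz5 (AllP.cons vpz2 (AllP.cons vpz6 (AllP.cons vpz3 (AllP.cons vpz8 (AllP.nil))))))))))))))) (hU.one rel7) (by decide +kernel)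
theorem vpz28 : PZ U (atm 4 fP) EXU 28 := PZ.of_inv hiv vpz27 (by decide +kernel)
theorem vpz29 : PZ U (atm 4 fP) EXU 29 := PZ.of_def hiv (d := [5, 7, 5, 2, 5, 2, 6, 8, 3, 5, 5, 4, 7]) (AllP.cons vpz5 (AllP.cons vpz7 (AllP.cons vpz5 (AllP.cons vpz2 (AllP.cons vpz5 (AllP.cons vpz2 (AllP.cons vpz6 (AllP.cons vpz8 (AllP.cons vpz3 (AllP.cons vpz5 (AllP.cons vpz5 (AllP.cons vpz4 (AllP.cons vpz7 (AllP.nil)))))))))))))) (hU.one rel8) (by decide +kernel)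
theorem vpz30 : PZ U (atm 4 fP) EXU 30 := PZ.of_inv hiv vpz29 (by decide +kernel)
theorem vpz31 : PZ U (atm 4 fP) EXU 31 := PZ.of_def hiv (d := [3, 3, 2, 6, 7, 3, 2, 4, 6, 4, 1, 5, 4, 5, 8]) (AllP.cons vpz3 (AllP.cons vpz3 (AllP.cons vpz2 (AllP.cons vpz6 (AllP.cons vpz7 (AllP.cons vpz3 (AllP.cons vpz2 (AllP.cons vpz4 (AllP.cons vpz6 (AllP.cons vpz4 (AllP.cons vpz1 (AllP.cons vpz5 (AllP.cons vpz4 (AllP.cons vpz5 (AllP.cons vpz8 (AllP.nil)))))))))))))))) (hU.one rel9) (by decide +kernel)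
theorem vpz32 : PZ U (atm 4 fP) EXU 32 := PZ.of_inv hiv vpz31 (by decide +kernel)
theorem vpz33 : PZ U (atm 4 fP) EXU 33 := PZ.of_def hiv (d := [6, 8, 5, 5, 1, 5, 1, 3, 3, 1, 4, 7, 5, 5, 7]) (AllP.cons vpz6 (AllP.cons vpz8 (AllP.cons vpz5 (AllP.cons vpz5 (AllP.cons vpz1 (AllP.cons vpz5 (AllP.cons vpz1 (AllP.cons vpz3 (AllP.cons vpz3 (AllP.cons vpz1 (AllP.cons vpz4 (AllP.cons vpz7 (AllP.cons vpz5 (AllP.cons vpz5 (AllP.cons vpz7 (AllP.nil)))))))))))))))) (hU.one rel10) (by decide +kernel)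
theorem vpz34 : PZ U (atm 4 fP) EXU 34 := PZ.of_inv hiv vpz33 (by decide +kernel)
theorem vpz35 : PZ U (atm 4 fP) EXU 35 := PZ.of_def hiv (d := [6, 3, 5, 1, 5, 1, 5, 7, 6, 1, 3, 6, 7, 5, 1, 6]) (AllP.cons vpz6 (AllP.cons vpz3 (AllP.cons vpz5 (AllP.cons vpz1 (AllP.cons vpz5 (AllP.cons vpz1 (AllP.cons vpz5 (AllP.cons vpz7 (AllP.cons vpz6 (AllP.cons vpz1 (AllP.cons vpz3 (AllP.cons vpz6 (AllP.cons vpz7 (AllP.cons vpz5 (AllP.cons vpz1 (AllP.cons vpz6 (AllP.nil))))))))))))))))) (hU.one rel11) (by decide +kernel)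
theorem vpz36 : PZ U (atm 4 fP) EXU 36 := PZ.of_inv hiv vpz35 (by decide +kernel)
theorem vpz37 : PZ U (atm 4 fP) EXU 37 := PZ.of_def hiv (d := [5, 8, 6, 4, 4, 6, 6, 8, 2, 6, 2, 6, 2, 3]) (AllP.cons vpz5 (AllP.cons vpz8 (AllP.cons vpz6 (AllP.cons vpz4 (AllP.cons vpz4 (AllP.cons vpz6 (AllP.cons vpz6 (AllP.cons vpz8 (AllP.cons vpz2 (AllP.cons vpz6 (AllP.cons vpz2 (AllP.cons vpz6 (AllP.cons vpz2 (AllP.cons vpz3 (AllP.nil))))))))))))))) (hU.one rel12) (by decide +kernel)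
theorem vpz38 : PZ U (atm 4 fP) EXU 38 := PZ.of_inv hiv vpz37 (by decide +kernel)
theorem hPZU : AllP (PZ U (atm 4 fP) EXU) LU :=
  show AllP (PZ U (atm 4 fP) EXU) [1, 2, 3, 4, 5, 6, 7, 8, 9, 10, 11, 12, 13, 14, 15, 16, 17, 18, 19, 20, 21, 22, 23, 24, 25, 26, 27, 28, 29, 30, 31, 32, 33, 34, 35, 36, 37, 38] from AllP.cons vpz1 (AllP.cons vpz2 (AllP.cons vpz3 (AllP.cons vpz4 (AllP.cons vpz5 (AllP.cons vpz6 (AllP.cons vpz7 (AllP.cons vpz8 (AllP.cons vpz9 (AllP.cons vpz10 (AllP.cons vpz11 (AllP.cons vpz12 (AllP.cons vpz13 (AllP.cons vpz14 (AllP.cons vpz15 (AllP.cons vpz16 (AllP.cons vpz17 (AllP.cons vpz18 (AllP.cons vpz19 (AllP.cons vpz20 (AllP.cons vpz21 (AllP.cons vpz22 (AllP.cons vpz23 (AllP.cons vpz24 (AllP.cons vpz25 (AllP.cons vpz26 (AllP.cons vpz27 (AllP.cons vpz28 (AllP.cons vpz29 (AllP.cons vpz30 (AllP.cons vpz31 (AllP.cons vpz32 (AllP.cons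 vpz33 (AllP.cons vpz34 (AllP.cons vpz35 (AllP.cons vpz36 (AllP.cons vpz37 (AllP.cons vpz38 (AllP.nil))))))))))))))))))))))))))))))))))))))
theorem eL : wsub 4 fP [[1, 5, 2, 2, 4, 2, 1, 2, 5, 1], [2, 5, 0, 5, 3, 4, 0, 4, 0, 0]] = U.lsub W13 :=
  lsub_eq_of_all₂ (show List.Forall₂ _ [[1, 5, 2, 2, 4, 2, 1, 2, 5, 1], [2, 5, 0, 5, 3, 4, 0, 4, 0, 0]] [[19], [21]] from List.Forall₂.cons ((show ev (atm 4 fP) [1, 5, 2, 2, 4, 2, 1, 2, 5, 1] = U.τ 19 from vpz19).trans (one_mul _).symm) (List.Forall₂.cons ((show ev (atm 4 fP) [2, 5, 0, 5, 3, 4, 0, 4, 0, 0] = U.τ 21 from vpz21).trans (one_mul _).symm) (List.Forall₂.nil)))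
theorem reach18 : Reach (U.lsub W13) 1 M16 := (Reach.grow hU (Reach.base _ 1) gr17)
theorem orb21 : (orbS (U.lsub W13) 1).ncard = 3125 := reach18.ncard hU cl19 sz20
theorem orb21e : orbS (U.lsub W13) 1 = {c | Nat.testBit M16 c = true} := reach18.orb hU cl19
theorem reach26 : Reach (U.lsub W22) 5 M24 := (Reach.grow hU (Reach.base _ 5) gr25)
theorem orb29 : (orbS (U.lsub W22) 5).ncard = 96 := reach26.ncard hU cl27 sz28
theorem orb29e : orbS (U.lsub W22) 5 = {c | Nat.testBit M24 c = true} := reach26.orb hU cl27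
theorem lbL30 : 96 ∣ Nat.card (U.lsub W22) := dvd_card_orb orb29
theorem lbL : 300000 ∣ Nat.card (U.lsub W13) :=
  dvd_card_step (s := 3125) (M := 96) (B := U.lsub W22) (Tab.lsub_le_all (AllP.cons (mem_of_rel (hU.one rel14) (U.mem_letters (by decide))) (AllP.cons (mem_of_rel (hU.one rel15) (U.mem_letters (by decide))) (AllP.nil)))) (hU.fixes fx23) orb21 lbL30
theorem cardL : 300000 ∣ Nat.card (wsub 4 p [[1, 5, 2, 2, 4, 2, 1, 2, 5, 1], [2, 5, 0, 5, 3, 4, 0, 4, 0, 0]]) := by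
  rw [card_wsub_lift, eL]; exact lbL
theorem eS1 : wsub 4 fP [[0, 3, 5, 1, 3, 3, 5, 3, 5, 1], [5, 0, 5, 0, 5, 0, 2, 4, 0, 3]] = U.lsub W31 :=
  lsub_eq_of_all₂ (show List.Forall₂ _ [[0, 3, 5, 1, 3, 3, 5, 3, 5, 1], [5, 0, 5, 0, 5, 0, 2, 4, 0, 3]] [[23], [25]] from List.Forall₂.cons ((show ev (atm 4 fP) [0, 3, 5, 1, 3, 3, 5, 3, 5, 1] = U.τ 23 from vpz23).trans (one_mul _).symm) (List.Forall₂.cons ((show ev (atm 4 fP) [5, 0, 5, 0, 5, 0, 2, 4, 0, 3] = U.τ 25 from vpz25).trans (one_mul _).symm) (List.Forall₂.nil)))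
theorem reach36 : Reach (U.lsub W31) 1 M34 := (Reach.grow hU (Reach.base _ 1) gr35)
theorem orb39 : (orbS (U.lsub W31) 1).ncard = 3125 := reach36.ncard hU cl37 sz38
theorem orb39e : orbS (U.lsub W31) 1 = {c | Nat.testBit M34 c = true} := reach36.orb hU cl37
theorem reach44 : Reach (U.lsub W40) 5 M42 := (Reach.grow hU (Reach.base _ 5) gr43)
theorem orb47 : (orbS (U.lsub W40) 5).ncard = 96 := reach44.ncard hU cl45 sz46
theorem orb47e : orbS (U.lsub W40) 5 = {c | Nat.testBit M42 c = true} := reach44.orb hU cl45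
theorem lbS148 : 96 ∣ Nat.card (U.lsub W40) := dvd_card_orb orb47
theorem lbS1 : 300000 ∣ Nat.card (U.lsub W31) :=
  dvd_card_step (s := 3125) (M := 96) (B := U.lsub W40) (Tab.lsub_le_all (AllP.cons (mem_of_rel (hU.one rel32) (U.mem_letters (by decide))) (AllP.cons (mem_of_rel (hU.one rel33) (U.mem_letters (by decide))) (AllP.nil)))) (hU.fixes fx41) orb39 lbS148
theorem cardS1 : 300000 ∣ Nat.card (wsub 4 p [[0, 3, 5, 1, 3, 3, 5, 3, 5, 1], [5, 0, 5, 0, 5, 0, 2, 4, 0, 3]]) := by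
  rw [card_wsub_lift, eS1]; exact lbS1
theorem eS3 : wsub 4 fP [[6, 1, 4, 3, 3, 4, 6, 4, 0, 5, 0, 4, 3, 6], [5, 7, 5, 0, 5, 0, 4, 6, 3, 5, 5, 2, 7]] = U.lsub W49 :=
  lsub_eq_of_all₂ (show List.Forall₂ _ [[6, 1, 4, 3, 3, 4, 6, 4, 0, 5, 0, 4, 3, 6], [5, 7, 5, 0, 5, 0, 4, 6, 3, 5, 5, 2, 7]] [[27], [29]] from List.Forall₂.cons ((show ev (atm 4 fP) [6, 1, 4, 3, 3, 4, 6, 4, 0, 5, 0, 4, 3, 6] = U.τ 27 from vpz27).trans (one_mul _).symm) (List.Forall₂.cons ((show ev (atm 4 fP) [5, 7, 5, 0, 5, 0, 4, 6, 3, 5, 5, 2, 7] = U.τ 29 from vpz29).trans (one_mul _).symm) (List.Forall₂.nil)))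
theorem reach53 : Reach (U.lsub W49) 5 M51 := (Reach.grow hU (Reach.base _ 5) gr52)
theorem orb56 : (orbS (U.lsub W49) 5).ncard = 2016 := reach53.ncard hU cl54 sz55
theorem orb56e : orbS (U.lsub W49) 5 = {c | Nat.testBit M51 c = true} := reach53.orb hU cl54
theorem reach61 : Reach (U.lsub W57) 0 M59 := (Reach.grow hU (Reach.base _ 0) gr60)
theorem orb64 : (orbS (U.lsub W57) 0).ncard = 3 := reach61.ncard hU cl62 sz63
theorem orb64e : orbS (U.lsub W57) 0 = {c | Nat.testBit M59 c = true} := reach61.orb hU cl62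
theorem lbS365 : 3 ∣ Nat.card (U.lsub W57) := dvd_card_orb orb64
theorem lbS3 : 6048 ∣ Nat.card (U.lsub W49) :=
  dvd_card_step (s := 2016) (M := 3) (B := U.lsub W57) (Tab.lsub_le_all (AllP.cons (mem_of_rel (hU.one rel50) (U.mem_letters (by decide))) (AllP.nil))) (hU.fixes fx58) orb56 lbS365
theorem cardS3 : 6048 ∣ Nat.card (wsub 4 p [[6, 1, 4, 3, 3, 4, 6, 4, 0, 5, 0, 4, 3, 6], [5, 7, 5, 0, 5, 0, 4, 6, 3, 5, 5, 2, 7]]) := by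
  rw [card_wsub_lift, eS3]; exact lbS3
theorem eS4 : wsub 4 fP [[3, 3, 0, 4, 7, 3, 0, 2, 4, 2, 1, 5, 2, 5, 6], [4, 6, 5, 5, 1, 5, 1, 3, 3, 1, 2, 7, 5, 5, 7]] = U.lsub W66 :=
  lsub_eq_of_all₂ (show List.Forall₂ _ [[3, 3, 0, 4, 7, 3, 0, 2, 4, 2, 1, 5, 2, 5, 6], [4, 6, 5, 5, 1, 5, 1, 3, 3, 1, 2, 7, 5, 5, 7]] [[31], [33]] from List.Forall₂.cons ((show ev (atm 4 fP) [3, 3, 0, 4, 7, 3, 0, 2, 4, 2, 1, 5, 2, 5, 6] = U.τ 31 from vpz31).trans (one_mul _).symm) (List.Forall₂.cons ((show ev (atm 4 fP) [4, 6, 5, 5, 1, 5, 1, 3, 3, 1, 2, 7, 5, 5, 7] = U.τ 33 from vpz33).trans (one_mul _).symm) (List.Forall₂.nil)))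
theorem reach69 : Reach (U.lsub W66) 3504 M67 := (Reach.grow hU (Reach.base _ 3504) gr68)
theorem orb72 : (orbS (U.lsub W66) 3504).ncard = 480 := reach69.ncard hU cl70 sz71
theorem orb72e : orbS (U.lsub W66) 3504 = {c | Nat.testBit M67 c = true} := reach69.orb hU cl70
theorem reach77 : Reach (U.lsub W73) 0 M75 := (Reach.grow hU (Reach.base _ 0) gr76)
theorem orb80 : (orbS (U.lsub W73) 0).ncard = 6 := reach77.ncard hU cl78 sz79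
theorem orb80e : orbS (U.lsub W73) 0 = {c | Nat.testBit M75 c = true} := reach77.orb hU cl78
theorem lbS481 : 6 ∣ Nat.card (U.lsub W73) := dvd_card_orb orb80
theorem lbS4 : 2880 ∣ Nat.card (U.lsub W66) :=
  dvd_card_step (s := 480) (M := 6) (B := U.lsub W73) (U.lsub_sub (by decide)) (hU.fixes fx74) orb72 lbS481
theorem cardS4 : 2880 ∣ Nat.card (wsub 4 p [[3, 3, 0, 4, 7, 3, 0, 2, 4, 2, 1, 5, 2, 5, 6], [4, 6, 5, 5, 1, 5, 1, 3, 3, 1, 2, 7, 5, 5, 7]]) := by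
  rw [card_wsub_lift, eS4]; exact lbS4
theorem eS5 : wsub 4 fP [[4, 3, 5, 1, 5, 1, 5, 7, 4, 1, 3, 4, 7, 5, 1, 4], [5, 6, 4, 2, 2, 4, 4, 6, 0, 4, 0, 4, 0, 3]] = U.lsub W82 :=
  lsub_eq_of_all₂ (show List.Forall₂ _ [[4, 3, 5, 1, 5, 1, 5, 7, 4, 1, 3, 4, 7, 5, 1, 4], [5, 6, 4, 2, 2, 4, 4, 6, 0, 4, 0, 4, 0, 3]] [[35], [37]] from List.Forall₂.cons ((show ev (atm 4 fP) [4, 3, 5, 1, 5, 1, 5, 7, 4, 1, 3, 4, 7, 5, 1, 4] = U.τ 35 from vpz35).trans (one_mul _).symm) (List.Forall₂.cons ((show ev (atm 4 fP) [5, 6, 4, 2, 2, 4, 4, 6, 0, 4, 0, 4, 0, 3] = U.τ 37 from vpz37).trans (one_mul _).symm) (List.Forall₂.nil)))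
theorem reach85 : Reach (U.lsub W82) 1 M83 := (Reach.grow hU (Reach.base _ 1) gr84)
theorem orb88 : (orbS (U.lsub W82) 1).ncard = 1008 := reach85.ncard hU cl86 sz87
theorem orb88e : orbS (U.lsub W82) 1 = {c | Nat.testBit M83 c = true} := reach85.orb hU cl86
theorem lbS5 : 1008 ∣ Nat.card (U.lsub W82) := dvd_card_orb orb88
theorem cardS5 : 1008 ∣ Nat.card (wsub 4 p [[4, 3, 5, 1, 5, 1, 5, 7, 4, 1, 3, 4, 7, 5, 1, 4], [5, 6, 4, 2, 2, 4, 4, 6, 0, 4, 0, 4, 0, 3]]) := by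
  rw [card_wsub_lift, eS5]; exact lbS5

end Cfsg.Agent.Spor.Ly3906.VB
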